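import Groth.Agent.EtAssocLib.Big
import Groth.Agent.EtVanish.EtaleFppf
import Groth.Agent.EtVanish.UniverseLift
import Groth.Agent.AdeqShLib.ZarCmp
import Groth.Prelude.Def_EtAssoc2

/-!
# The etale sheaf associated to a quasi-coherent module
-/

set_option autoImplicit false
set_option backward.isDefEq.respectTransparency false
set_option backward.isDefEq.respectTransparency.types false
set_option maxHeartbeats 800000
universe u

open CategoryTheory CategoryTheory.Limits AlgebraicGeometry TopologicalSpace Opposite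
open Groth.Agent.CohBase Groth.Agent.PullbackMod Groth.Agent.AdeqShLib

namespace Groth.Agent.EtAssocLib

/-- Pullback of sections along an open immersion is bijective inside the image. -/
theorem pullMap_bijective {X X' : Scheme.{u}} (g : X' ⟶ X) [IsOpenImmersion g] (M : X.Modules) {W : X.Opens}
    {W' : X'.Opens} (e : W' ≤ g ⁻¹ᵁ W) (hr : W ≤ g.opensRange) (e' : g ⁻¹ᵁ W ≤ W') :
    Function.Bijective (pullMap g M e) := by
  let adjR := Scheme.Modules.restrictAdjunction g
  have hu : (Scheme.Modules.pullbackPushforwardAdjunction g).unit.app M = adjR.unit.app M ≫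
      (Scheme.Modules.pushforward g).map ((Scheme.Modules.restrictFunctorIsoPullback g).hom.app M) :=
    (Adjunction.unit_leftAdjointUniq_hom_app adjR (Scheme.Modules.pullbackPushforwardAdjunction g) M).symm
  have hb : Function.Bijective ((adjR.unit.app M).app W) :=
    res_bijective M (g.image_preimage_le W) (by
      rw [Scheme.Hom.image_preimage_eq_opensRange_inf, inf_eq_right.2 hr])
  refine (res_bijective _ e e').comp ?_
  rw [hu]
  exact (ConcreteCategory.bijective_of_isIso
    (((Scheme.Modules.restrictFunctorIsoPullback g).hom.app M).app (g ⁻¹ᵁ W))).comp hb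

variable {S : Scheme.{u}} (F : S.Modules)

theorem sMap_eq_resMap {U U' : S.Etale} (g : U' ⟶ U) (s : Sec F U.hom) :
    sMap F g.left (Over.w g.hom) s = EtAssoc.resMap F g s :=
  qMap_eq F g.left (Over.w g.hom) (le_refl ⊤) s

variable [Coh.IsQCoh F]

theorem isAssoc_aPush [EtFppf.ACont S] : EtAssoc.IsAssoc F ((EtFppf.aPush S).obj (bigSheaf F)) :=
  ⟨fun _ => AddEquiv.refl _, fun _ _ g s => sMap_eq_resMap F g s.down⟩

/-- Any associated sheaf is the restriction of the big sheaf. -/
noncomputable def assocIso [EtFppf.ACont S] (G : EtCoh.Ab S) (hG : EtAssoc.IsAssoc F G) :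
    G ≅ (EtFppf.aPush S).obj (bigSheaf F) :=
  (fullyFaithfulSheafToPresheaf _ _).preimageIso
    (NatIso.ofComponents (fun U => AddEquiv.toAddCommGrpIso
        (X := G.obj.obj U) (Y := ((EtFppf.aPush S).obj (bigSheaf F)).obj.obj U) (hG.choose U.unop))
      (fun {U U'} g => AddCommGrpCat.hom_ext (AddMonoidHom.ext fun s => ULift.ext _ _
        ((hG.choose_spec U.unop U'.unop g.unop s).trans (sMap_eq_resMap F g.unop _).symm))))

/-- Sections over an open as sections of the inverse image. -/
noncomputable def openSecIso (U : S.Opens) : (Coh.toAb F).obj.obj (op U) ≅ Sec F U.ι :=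
  AddEquiv.toAddCommGrpIso (X := (Coh.toAb F).obj.obj (op U)) (Y := Sec F U.ι)
    (AddEquiv.ofBijective (pullMap U.ι F (W := U) (W' := ⊤) (by rw [Scheme.Opens.ι_preimage_self]))
      (pullMap_bijective U.ι F _ (by rw [Scheme.Opens.opensRange_ι]) le_top))

/-- The Zariski restriction of the big sheaf. -/
noncomputable def resZarBigIso [BigSite.ZarCont Scheme.fppfPrecoverage S] :
    (EtVanish.liftSh (X := S)).obj (Coh.toAb F) ≅ (BigSite.resZar Scheme.fppfPrecoverage S).obj (bigSheaf F) :=
  (fullyFaithfulSheafToPresheaf _ _).preimageIso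
    (NatIso.ofComponents (fun U => AddCommGrpCat.uliftFunctor.{u + 1, u}.mapIso (openSecIso F U.unop))
      (fun {U V} f => by
        ext x
        apply ULift.ext
        show pullMap (Scheme.Opens.ι V.unop) F (W := V.unop) (W' := ⊤) _ (F.presheaf.map f x.down) =
          sMap F (S.homOfLE f.unop.le) _ (pullMap (Scheme.Opens.ι U.unop) F (W := U.unop) (W' := ⊤) _ x.down)
        have hU : (⊤ : (Scheme.Opens.toScheme V.unop).Opens) ≤ (Scheme.Opens.ι V.unop) ⁻¹ᵁ U.unop := fun y _ => f.unop.le y.2
        refine Eq.trans ?_ (qMap_pullMap F (S.homOfLE f.unop.le) _ _ _ hU x.down).symm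
        exact ((restr_self _ le_rfl _).symm.trans
          (pullMap_res (Scheme.Opens.ι V.unop) F hU (V := V.unop) (V' := ⊤) f.unop.le le_rfl
            (by rw [Scheme.Opens.ι_preimage_self]) x.down)).symm))

theorem nonempty_H_assoc_equiv [BigSite.ZarCont Scheme.fppfPrecoverage S] [EtFppf.ACont S] (G : EtCoh.Ab S)
    (hG : EtAssoc.IsAssoc F G) (q : ℕ) : Nonempty (EtCoh.H S G q ≃+ Coh.HH S F q) := by
  obtain ⟨e1⟩ := EtVanish.nonempty_etH_equiv _ (cechExact_bigSheaf F) q
  obtain ⟨e2⟩ := nonempty_zarH_equiv S q _ (cechExact_bigSheaf F)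
  obtain ⟨e3⟩ := EtVanish.nonempty_H_lift_equiv q (Coh.toAb F)
  exact ⟨(((Sheaf.functorH _ q).mapIso (assocIso F G hG)).addCommGroupIsoToAddEquiv.trans e1).trans
    (e2.symm.trans (((Sheaf.functorH _ q).mapIso (resZarBigIso F).symm).addCommGroupIsoToAddEquiv.trans e3))⟩

end Groth.Agent.EtAssocLib
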