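import Groth.Agent.EtAssocLib.Pull
import Mathlib.RingTheory.IsTensorProduct

/-!
# Sections of inverse images over affine schemes
-/

set_option autoImplicit false
set_option backward.isDefEq.respectTransparency false
set_option backward.isDefEq.respectTransparency.types false
set_option backward.defeqAttrib.useBackward true
set_option maxHeartbeats 800000
universe u

open CategoryTheory CategoryTheory.Limits AlgebraicGeometry TopologicalSpace Opposite TensorProduct
open Groth.Agent.CohBase Groth.Agent.QCohLib Groth.Agent.PullbackMod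

namespace Groth.Agent.EtAssocLib

/-- Tensor products over isomorphic rings. -/
theorem exists_tensor_congr {R R' : Type u} [CommRing R] [CommRing R'] (eR : R ≃+* R') {C C' : Type u} [CommRing C]
    [CommRing C'] [Algebra R C] [Algebra R' C'] (eC : C ≃+* C') (h : ∀ r, eC (algebraMap R C r) = algebraMap R' C' (eR r))
    (M : Type u) [AddCommGroup M] [Module R M] [Module R' M] (hM : ∀ (r : R) (m : M), r • m = eR r • m) :
    ∃ θ : C ⊗[R] M →+ C' ⊗[R'] M, Function.Bijective θ ∧ ∀ c m, θ (c ⊗ₜ[R] m) = eC c ⊗ₜ[R'] m := by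
  let f : C →+ M →+ C' ⊗[R'] M :=
    AddMonoidHom.mk' (fun c => AddMonoidHom.mk' (fun m => eC c ⊗ₜ[R'] m) fun m m' => tmul_add _ _ _) fun c c' => by
      ext m; simp [add_tmul]
  have hf : ∀ (r : R) (c : C) (m : M), f (r • c) m = f c (r • m) := fun r c m => by
    show eC (r • c) ⊗ₜ[R'] m = eC c ⊗ₜ[R'] (r • m)
    rw [Algebra.smul_def, map_mul, h, hM, ← Algebra.smul_def, smul_tmul]
  let g : C' →+ M →+ C ⊗[R] M :=
    AddMonoidHom.mk' (fun c => AddMonoidHom.mk' (fun m => eC.symm c ⊗ₜ[R] m) fun m m' => tmul_add _ _ _) fun c c' => by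
      ext m; simp [add_tmul]
  have hg : ∀ (r : R') (c : C') (m : M), g (r • c) m = g c (r • m) := fun r c m => by
    show eC.symm (r • c) ⊗ₜ[R] m = eC.symm c ⊗ₜ[R] (r • m)
    obtain ⟨r, rfl⟩ := eR.surjective r
    rw [Algebra.smul_def, map_mul, ← h, RingEquiv.symm_apply_apply, ← Algebra.smul_def, smul_tmul, hM]
  refine ⟨TensorProduct.liftAddHom f hf, ?_, fun c m => TensorProduct.liftAddHom_tmul _ _ _ _⟩
  refine Function.bijective_iff_has_inverse.2 ⟨TensorProduct.liftAddHom g hg, fun z => ?_, fun z => ?_⟩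
  · induction z using TensorProduct.induction_on with
    | zero => simp
    | tmul c m => simp [f, g]
    | add x y hx hy => simp only [map_add, hx, hy]
  · induction z using TensorProduct.induction_on with
    | zero => simp
    | tmul c m => simp [f, g]
    | add x y hx hy => simp only [map_add, hx, hy]

variable {S : Scheme.{u}} (F : S.Modules)

/-- Global sections of an inverse image. -/
noncomputable abbrev Sec {T : Scheme.{u}} (t : T ⟶ S) : AddCommGrpCat.{u} :=
  ((Scheme.Modules.pullback t).obj F).presheaf.obj (op ⊤)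

/-- Pullback of global sections. -/
noncomputable def sMap {T T' : Scheme.{u}} {t : T ⟶ S} {t' : T' ⟶ S} (g : T' ⟶ T) (e : g ≫ t = t') :
    Sec F t →+ Sec F t' :=
  qMap F g e (le_refl ⊤)

theorem sMap_sMap {T T' T'' : Scheme.{u}} {t : T ⟶ S} {t' : T' ⟶ S} {t'' : T'' ⟶ S} (g : T' ⟶ T) (g' : T'' ⟶ T')
    (e : g ≫ t = t') (e' : g' ≫ t' = t'') (e'' : (g' ≫ g) ≫ t = t'') (s : Sec F t) :
    sMap F g' e' (sMap F g e s) = sMap F (g' ≫ g) e'' s :=
  qMap_qMap F g g' e e' e'' _ _ _ s

theorem sMap_id {T : Scheme.{u}} {t : T ⟶ S} (e : 𝟙 T ≫ t = t) (s : Sec F t) : sMap F (𝟙 T) e s = s :=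
  (qMap_self F e (le_refl (⊤ : T.Opens)) s).trans (restr_self _ _ s)

theorem sMap_smul {T T' : Scheme.{u}} {t : T ⟶ S} {t' : T' ⟶ S} (g : T' ⟶ T) (e : g ≫ t = t') (c : Γ(T, ⊤))
    (s : Sec F t) : sMap F g e (c • s) = g.appTop c • sMap F g e s := by
  refine (qMap_smul F g e _ c s).trans ?_
  rw [show g.appLE ⊤ ⊤ (le_refl ⊤) c = g.appTop c from congr($(Scheme.Hom.appLE_eq_app (f := g)) c)]
  rfl

variable {R : CommRingCat.{u}} (a : Spec R ⟶ S)

/-- The module of sections over an affine scheme. -/
@[implicit_reducible] noncomputable def secModule : Module R (Sec F a) :=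
  Module.compHom _ (Scheme.ΓSpecIso R).inv.hom

variable (C : CommRingCat.{u}) [Algebra R C] {c : Spec C ⟶ S}
  (e : Spec.map (CommRingCat.ofHom (algebraMap R C)) ≫ a = c)

/-- Base change of sections to an algebra. -/
noncomputable def secVal :
    letI := secModule F a
    C ⊗[R] Sec F a →+ Sec F c :=
  letI := secModule F a
  TensorProduct.liftAddHom
    (AddMonoidHom.mk' (fun x => AddMonoidHom.mk' (fun m => (Scheme.ΓSpecIso C).inv x • sMap F _ e m)
      fun m m' => by rw [map_add, smul_add])
      fun x x' => by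
        ext m
        show (Scheme.ΓSpecIso C).inv (x + x') • sMap F _ e m = _
        rw [map_add, add_smul]
        rfl)
    fun r x m => by
      show (Scheme.ΓSpecIso C).inv (r • x) • sMap F _ e m =
        (Scheme.ΓSpecIso C).inv x • sMap F _ e ((Scheme.ΓSpecIso R).inv r • m)
      rw [sMap_smul, smul_smul, Algebra.smul_def, map_mul, mul_comm]
      congr 2
      exact ConcreteCategory.congr_hom (Scheme.ΓSpecIso_inv_naturality (CommRingCat.ofHom (algebraMap R C))) r

theorem secVal_tmul (x : C) (m : Sec F a) :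
    letI := secModule F a
    secVal F a C e (x ⊗ₜ[R] m) = (Scheme.ΓSpecIso C).inv x • sMap F _ e m :=
  TensorProduct.liftAddHom_tmul _ _ _ _

theorem secVal_natural {C' : CommRingCat.{u}} [Algebra R C'] (h : C →ₐ[R] C') {c' : Spec C' ⟶ S}
    (e' : Spec.map (CommRingCat.ofHom (algebraMap R C')) ≫ a = c')
    (hg : Spec.map (CommRingCat.ofHom h.toRingHom) ≫ c = c')
    (z : letI := secModule F a; C ⊗[R] Sec F a) :
    letI := secModule F a
    sMap F (Spec.map (CommRingCat.ofHom h.toRingHom)) hg (secVal F a C e z) =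
      secVal F a C' e' (h.toLinearMap.rTensor (Sec F a) z) := by
  letI := secModule F a
  induction z using TensorProduct.induction_on with
  | zero => simp
  | tmul x m =>
    rw [secVal_tmul, LinearMap.rTensor_tmul, secVal_tmul, sMap_smul]
    have hh : Spec.map (CommRingCat.ofHom h.toRingHom) ≫ Spec.map (CommRingCat.ofHom (algebraMap R C)) =
        Spec.map (CommRingCat.ofHom (algebraMap R C')) := by
      rw [← Spec.map_comp]
      exact congrArg Spec.map (CommRingCat.hom_ext h.comp_algebraMap)
    congr 1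
    · exact (ConcreteCategory.congr_hom (Scheme.ΓSpecIso_inv_naturality (CommRingCat.ofHom h.toRingHom)) x).symm
    · have key : ∀ (k : Spec C' ⟶ Spec R) (ek : k ≫ a = c'),
          k = Spec.map (CommRingCat.ofHom (algebraMap R C')) → sMap F k ek m = sMap F _ e' m := by
        rintro k ek rfl; rfl
      exact (sMap_sMap F _ _ e hg (by rw [Category.assoc, e, hg]) m).trans (key _ _ hh)
  | add x y hx hy => simp only [map_add, hx, hy]

theorem secVal_bijective [Coh.IsQCoh F] : letI := secModule F a; Function.Bijective (secVal F a C e) := by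
  letI := secModule F a
  let g := Spec.map (CommRingCat.ofHom (algebraMap R C))
  let M := (Scheme.Modules.pullback a).obj F
  haveI : Coh.IsQCoh M := isQCoh_pullback a F
  letI : Algebra Γ(Spec R, ⊤) Γ(Spec C, ⊤) := (g.appLE ⊤ ⊤ (le_refl ⊤)).hom.toAlgebra
  letI := Module.compHom Γ((Scheme.Modules.pullback g).obj M, ⊤) (g.appLE ⊤ ⊤ (le_refl ⊤)).hom
  haveI : IsScalarTower Γ(Spec R, ⊤) Γ(Spec C, ⊤) Γ((Scheme.Modules.pullback g).obj M, ⊤) :=
    .of_algebraMap_smul fun _ _ => rfl
  have hb := isBaseChange_pullMapL g M (isAffineOpen_top (Spec R)) (isAffineOpen_top (Spec C)) (le_refl ⊤)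
  obtain ⟨θ, hθ, hθ'⟩ := exists_tensor_congr (Scheme.ΓSpecIso R).symm.commRingCatIsoToRingEquiv
    (Scheme.ΓSpecIso C).symm.commRingCatIsoToRingEquiv (fun r => by
      show (Scheme.ΓSpecIso C).inv (algebraMap R C r) = g.appLE ⊤ ⊤ (le_refl ⊤) ((Scheme.ΓSpecIso R).inv r)
      refine (ConcreteCategory.congr_hom (Scheme.ΓSpecIso_inv_naturality (CommRingCat.ofHom (algebraMap R C))) r).trans ?_
      exact (congr($(Scheme.Hom.appLE_eq_app (f := g)) ((Scheme.ΓSpecIso R).inv r))).symm)
    (Sec F a) (fun r m => rfl)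
  have key : ∀ z, secVal F a C e z = (pullIso F g e).hom.app ⊤ (hb.equiv (θ z)) := by
    intro z
    induction z using TensorProduct.induction_on with
    | zero => simp
    | tmul x m =>
      rw [secVal_tmul, hθ']
      refine Eq.trans ?_ ((congrArg _ (hb.equiv_tmul _ _)).trans (Scheme.Modules.Hom.app_smul _ _ _)).symm
      exact congrArg _ (qMap_eq F g e (le_refl ⊤) m)
    | add x y hx hy => simp only [map_add, hx, hy]
  rw [show (secVal F a C e : _ → _) = fun z => (pullIso F g e).hom.app ⊤ (hb.equiv (θ z)) from funext key]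
  exact (ConcreteCategory.bijective_of_isIso _).comp (hb.equiv.bijective.comp hθ)

end Groth.Agent.EtAssocLib
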