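import Groth.Agent.EtAssocLib.Affine
import Groth.Agent.AdeqShLib.AbVanish
import Groth.Agent.AdeqShLib.Slice
import Groth.Agent.AdeqLib.FFDescent

/-!
# The fppf sheaf of sections of the inverse images of a quasi-coherent module
-/

set_option autoImplicit false
set_option backward.isDefEq.respectTransparency false
set_option backward.isDefEq.respectTransparency.types false
set_option maxHeartbeats 800000
universe u

open CategoryTheory CategoryTheory.Limits AlgebraicGeometry TopologicalSpace Opposite TensorProduct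
open Groth.Agent.CohBase Groth.Agent.PullbackMod Groth.Agent.AdeqShLib Groth.Agent.AdeqLib

namespace Groth.Agent.EtAssocLib

variable {S : Scheme.{u}} (F : S.Modules)

/-- Pullback of sections along a morphism of the big site. -/
noncomputable def bigRes {T T' : Over S} (g : T' ⟶ T) : Sec F T.hom ⟶ Sec F T'.hom :=
  AddCommGrpCat.ofHom (sMap F (t := T.hom) (t' := T'.hom) g.left (Over.w g))

theorem bigRes_id (T : Over S) : bigRes F (𝟙 T) = 𝟙 _ :=
  AddCommGrpCat.hom_ext (AddMonoidHom.ext fun x => sMap_id F (t := T.hom) (Category.id_comp _) x)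

theorem bigRes_comp {T T' T'' : Over S} (g : T' ⟶ T) (g' : T'' ⟶ T') :
    bigRes F (g' ≫ g) = bigRes F g ≫ bigRes F g' :=
  AddCommGrpCat.hom_ext (AddMonoidHom.ext fun x => (sMap_sMap F g.left g'.left (Over.w g) (Over.w g') (Over.w (g' ≫ g)) x).symm)

/-- Sections of inverse images, as a presheaf on the big site. -/
noncomputable def bigPre : (Over S)ᵒᵖ ⥤ AddCommGrpCat.{u + 1} where
  obj T := AddCommGrpCat.uliftFunctor.{u + 1, u}.obj (Sec F T.unop.hom)
  map {T T'} g := AddCommGrpCat.uliftFunctor.{u + 1, u}.map (bigRes F g.unop)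
  map_id T := by rw [unop_id, bigRes_id, CategoryTheory.Functor.map_id]
  map_comp {T T' T''} g g' := by rw [unop_comp, bigRes_comp, CategoryTheory.Functor.map_comp]

/-- The underlying presheaf of sets. -/
noncomputable abbrev bigFun : (Over S)ᵒᵖ ⥤ Type (u + 1) := bigPre F ⋙ forget AddCommGrpCat.{u + 1}

theorem sMap_eq_of_eq {T Z : Scheme.{u}} {t t' : T ⟶ S} {z : Z ⟶ S} {y : Sec F t} {y' : Sec F t'}
    (h : (⟨t, ULift.up y⟩ : Σ g : T ⟶ S, ULift.{u + 1} (Sec F g)) = ⟨t', ULift.up y'⟩) (k : Z ⟶ T)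
    (e : k ≫ t = z) (e' : k ≫ t' = z) : sMap F k e y = sMap F k e' y' := by
  obtain rfl : t = t' := congrArg Sigma.fst h
  obtain rfl : y = y' := congrArg ULift.down (eq_of_heq (Sigma.mk.inj h).2)
  rfl

theorem total_mk_eq {T : Scheme.{u}} {t t' : T ⟶ S} {y : Sec F t} {y' : Sec F t'} (e : t = t')
    (h : sMap F (𝟙 T) ((Category.id_comp t).trans e) y = y') :
    (⟨t, ULift.up y⟩ : Σ g : T ⟶ S, ULift.{u + 1} (Sec F g)) = ⟨t', ULift.up y'⟩ := by
  subst e
  rw [sMap_id] at h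
  rw [h]

theorem isSheaf_zariski : Presieve.IsSheaf Scheme.zariskiTopology.{u} (totalPre (bigFun F)) := by
  rw [Scheme.zariskiTopology, Scheme.grothendieckTopology, Precoverage.isSheaf_toGrothendieck_iff_of_isStableUnderBaseChange]
  rintro Y Rp hR
  obtain ⟨(𝒰 : Y.OpenCover), rfl⟩ := Scheme.exists_cover_of_mem_pretopology hR
  rw [Presieve.isSheafFor_arrows_iff]
  intro x hx
  let t : Y ⟶ S := Scheme.Cover.glueMorphisms 𝒰 (fun i => (x i).1)
    (fun i j => congrArg Sigma.fst (hx i j _ (pullback.fst _ _) (pullback.snd _ _) pullback.condition))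
  have he : ∀ i, 𝒰.f i ≫ t = (x i).1 := fun i => Scheme.Cover.ι_glueMorphisms 𝒰 _ _ i
  let M := (Scheme.Modules.pullback t).obj F
  let U : 𝒰.I₀ → Y.Opens := fun i => (𝒰.f i).opensRange
  have hpre : ∀ i, (⊤ : (𝒰.X i).Opens) ≤ (𝒰.f i) ⁻¹ᵁ U i := fun i => by
    rw [Scheme.Hom.preimage_opensRange]
  let b := fun i => qMap F (𝒰.f i) (he i) (hpre i)
  have hb : ∀ i, Function.Bijective (b i) := fun i =>
    qMap_bijective_of_isOpenImmersion F (𝒰.f i) (he i) (hpre i) le_rfl le_top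
  choose s hs using fun i => (hb i).2 (x i).2.down
  have hcomp : TopCat.Presheaf.IsCompatible M.presheaf U s := fun i j => by
    let V := U i ⊓ U j
    haveI := 𝒰.map_prop i
    haveI := 𝒰.map_prop j
    let li := IsOpenImmersion.lift (𝒰.f i) V.ι (by rw [Scheme.Opens.range_ι]; exact fun y hy => hy.1)
    let lj := IsOpenImmersion.lift (𝒰.f j) V.ι (by rw [Scheme.Opens.range_ι]; exact fun y hy => hy.2)
    have hli : li ≫ 𝒰.f i = V.ι := IsOpenImmersion.lift_fac _ _ _
    have hlj : lj ≫ 𝒰.f j = V.ι := IsOpenImmersion.lift_fac _ _ _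
    have hV : (⊤ : V.toScheme.Opens) ≤ V.ι ⁻¹ᵁ V := by rw [Scheme.Opens.ι_preimage_self]
    refine (qMap_bijective_of_isOpenImmersion F V.ι rfl hV (by rw [Scheme.Opens.opensRange_ι]) le_top).1 ?_
    have hl' : ∀ (k : 𝒰.I₀) (l : V.toScheme ⟶ 𝒰.X k), l ≫ 𝒰.f k = V.ι → l ≫ (x k).1 = V.ι ≫ t := fun k l hl => by
      rw [← he, reassoc_of% hl]
    have key : ∀ (k : 𝒰.I₀) (hk : V ≤ U k) (l : V.toScheme ⟶ 𝒰.X k) (hl : l ≫ 𝒰.f k = V.ι),
        qMap F V.ι rfl hV (M.presheaf.map (homOfLE hk).op (s k)) =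
          sMap F l (t' := V.ι ≫ t) (hl' k l hl) (x k).2.down := by
      intro k hk l hl
      have h2 : ∀ (m : V.toScheme ⟶ Y) (em : m ≫ t = V.ι ≫ t) (hm : (⊤ : V.toScheme.Opens) ≤ m ⁻¹ᵁ U k),
          m = V.ι → qMap F m em hm (s k) = qMap F V.ι rfl hV (M.presheaf.map (homOfLE hk).op (s k)) := by
        rintro m em hm rfl
        exact ((qMap_res F V.ι rfl hm hk le_rfl hV (s k)).trans (restr_self _ _ _)).symm
      have hlk : (⊤ : V.toScheme.Opens) ≤ (l ≫ 𝒰.f k) ⁻¹ᵁ U k := fun y _ => hpre k trivial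
      rw [← hs k]
      exact ((qMap_qMap F (𝒰.f k) l (he k) _ (by rw [hl]) (hpre k) (fun y _ => trivial) hlk (s k)).trans
        (h2 _ _ _ hl)).symm
    refine (key i inf_le_left li hli).trans (Eq.trans ?_ (key j inf_le_right lj hlj).symm)
    have h := hx i j _ li lj (hli.trans hlj.symm)
    have h1 := sMap_eq_of_eq F h (𝟙 _) (z := V.ι ≫ t) ((Category.id_comp _).trans (hl' i li hli))
      ((Category.id_comp _).trans (hl' j lj hlj))
    refine Eq.trans ?_ (h1.trans ?_)
    · refine Eq.symm ((sMap_sMap F li (𝟙 _) _ _ ?_ _).trans ?_)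
      · exact (congrArg (· ≫ (x i).1) (Category.id_comp li)).trans (hl' i li hli)
      · congr 1 <;> simp
    · refine (sMap_sMap F lj (𝟙 _) _ _ ?_ _).trans ?_
      · exact (congrArg (· ≫ (x j).1) (Category.id_comp lj)).trans (hl' j lj hlj)
      · congr 1 <;> simp
  have hcov : (⊤ : Y.Opens) ≤ iSup U := by rw [𝒰.iSup_opensRange]
  obtain ⟨z, hz, hzu⟩ := TopCat.Sheaf.existsUnique_gluing' (⟨M.presheaf, M.isSheaf⟩ : TopCat.Sheaf _ Y.toTopCat)
    U ⊤ (fun i => homOfLE le_top) hcov s hcomp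
  have hval : ∀ (z : Γ(M, ⊤)) i, sMap F (𝒰.f i) (he i) z = b i (M.presheaf.map (homOfLE le_top).op z) := fun z i =>
    ((qMap_res F (𝒰.f i) (he i) (le_refl (⊤ : (𝒰.X i).Opens)) le_top le_rfl (hpre i) z).trans (restr_self _ _ _)).symm
  refine ⟨⟨t, ULift.up z⟩, fun i => ?_, ?_⟩
  · refine (totalPre_map (P := bigFun F) (𝒰.f i) t (ULift.up z)).trans ?_
    refine total_mk_eq F (he i) ?_
    refine ((sMap_sMap F _ (𝟙 _) _ _ ?_ z).trans ?_).trans ((hval z i).trans ((congrArg (b i) (hz i)).trans (hs i)))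
    · exact (congrArg (· ≫ t) (Category.id_comp (𝒰.f i))).trans (he i)
    · congr 1
  · rintro ⟨t', ⟨z'⟩⟩ h
    have ht : t' = t := Scheme.Cover.hom_ext 𝒰 _ _ fun i =>
      (congrArg Sigma.fst ((totalPre_map (P := bigFun F) (𝒰.f i) t' (ULift.up z')).symm.trans (h i))).trans (he i).symm
    subst ht
    refine congrArg (fun z => (⟨t, ULift.up z⟩ : Σ g : Y ⟶ S, ULift.{u + 1} (Sec F g))) (hzu z' fun i => (hb i).1 ?_)
    refine ((hval z' i).symm.trans ?_).trans (hs i).symm
    have h1 := sMap_eq_of_eq F ((totalPre_map (P := bigFun F) (𝒰.f i) t (ULift.up z')).symm.trans (h i)) (𝟙 _)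
      (z := (x i).1) ((Category.id_comp _).trans (he i)) (Category.id_comp _)
    refine Eq.trans ?_ (h1.trans (sMap_id F _ _))
    refine Eq.symm ((sMap_sMap F _ (𝟙 _) _ _ ?_ z').trans ?_)
    · exact (congrArg (· ≫ t) (Category.id_comp (𝒰.f i))).trans (he i)
    · congr 1

theorem sMap_congr {T T' : Scheme.{u}} {t : T ⟶ S} {t' : T' ⟶ S} {g g' : T' ⟶ T} (h : g = g') (e : g ≫ t = t')
    (e' : g' ≫ t = t') (s : Sec F t) : sMap F g e s = sMap F g' e' s := by
  subst h
  rfl

theorem sMap_id_comp {T T' : Scheme.{u}} {t : T ⟶ S} {t' t'' : T' ⟶ S} (g : T' ⟶ T) (e : g ≫ t = t')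
    (h : 𝟙 T' ≫ t' = t'') (e'' : g ≫ t = t'') (s : Sec F t) : sMap F (𝟙 T') h (sMap F g e s) = sMap F g e'' s := by
  refine (sMap_sMap F g (𝟙 T') e h ((congrArg (· ≫ t) (Category.id_comp g)).trans e'') s).trans ?_
  exact sMap_congr F (Category.id_comp g) _ _ s

theorem isSheafFor_affine [Coh.IsQCoh F] {R B : CommRingCat.{u}} (φ : R ⟶ B) (hflat : Flat (Spec.map φ))
    (hsurj : Surjective (Spec.map φ)) :
    Presieve.IsSheafFor (totalPre (bigFun F)) (.singleton (Spec.map φ)) := by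
  have hyo : Presieve.IsSheafFor (yoneda.obj S) (.singleton (Spec.map φ)) := by
    have h := GrothendieckTopology.Subcanonical.isSheaf_of_isRepresentable (J := Scheme.fpqcTopology) (yoneda.obj S)
    rw [Scheme.fpqcTopology_eq_propQCTopology, isSheaf_type_propQCTopology_iff] at h
    exact h.2 φ hflat hsurj
  rw [Presieve.isSheafFor_singleton]
  rintro ⟨g, ⟨y⟩⟩ hcomp
  obtain ⟨a, ha, hau⟩ := Presieve.isSheafFor_singleton.1 hyo g
    (fun {Z} p₁ p₂ e => congrArg Sigma.fst (hcomp p₁ p₂ e))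
  have ha' : Spec.map φ ≫ a = g := ha
  subst ha'
  letI : Algebra R B := φ.hom.toAlgebra
  haveI : Module.FaithfullyFlat R B := by
    exact RingHom.faithfullyFlat_algebraMap_iff.1 ((flat_and_surjective_SpecMap_iff φ).1 ⟨hflat, hsurj⟩)
  letI := secModule F a
  have eB : Spec.map (CommRingCat.ofHom (algebraMap R B)) ≫ a = Spec.map φ ≫ a := rfl
  obtain ⟨w, hw⟩ := (secVal_bijective F a B eB).2 y
  let B₂ : CommRingCat.{u} := CommRingCat.of (B ⊗[R] B)
  let c₂ : Spec B₂ ⟶ S := Spec.map (CommRingCat.ofHom (algebraMap R B₂)) ≫ a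
  let i₁ : B →ₐ[R] B₂ := Algebra.TensorProduct.includeLeft
  let i₂ : B →ₐ[R] B₂ := Algebra.TensorProduct.includeRight
  have hi : ∀ i : B →ₐ[R] B₂, Spec.map (CommRingCat.ofHom i.toRingHom) ≫ Spec.map φ =
      Spec.map (CommRingCat.ofHom (algebraMap R B₂)) := fun i =>
    (Spec.map_comp _ _).symm.trans (congrArg Spec.map (CommRingCat.hom_ext i.comp_algebraMap))
  have hi' : ∀ i : B →ₐ[R] B₂, Spec.map (CommRingCat.ofHom i.toRingHom) ≫ Spec.map φ ≫ a = c₂ := fun i =>
    (Category.assoc _ _ _).symm.trans (congrArg (· ≫ a) (hi i))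
  have hp : sMap F (Spec.map (CommRingCat.ofHom i₁.toRingHom)) (hi' i₁) y =
      sMap F (Spec.map (CommRingCat.ofHom i₂.toRingHom)) (hi' i₂) y := by
    have h := hcomp (Spec.map (CommRingCat.ofHom i₁.toRingHom)) (Spec.map (CommRingCat.ofHom i₂.toRingHom))
      ((hi i₁).trans (hi i₂).symm)
    have h1 := sMap_eq_of_eq F h (𝟙 _) (z := c₂) ((Category.id_comp _).trans (hi' i₁))
      ((Category.id_comp _).trans (hi' i₂))
    exact (sMap_id_comp F _ rfl _ (hi' i₁) y).symm.trans (h1.trans (sMap_id_comp F _ rfl _ (hi' i₂) y))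
  rw [← hw] at hp
  have hz := (secVal_bijective F a B₂ (c := c₂) rfl).1
    ((secVal_natural F a B eB i₁ rfl (hi' i₁) w).symm.trans (hp.trans (secVal_natural F a B eB i₂ rfl (hi' i₂) w)))
  obtain ⟨hinj, heq⟩ := amitsur_module (R := R) (B := B) (Sec F a)
  obtain ⟨m, rfl⟩ := heq w hz
  have hone : ∀ n, secVal F a B eB ((1 : B) ⊗ₜ[R] n) = sMap F (Spec.map φ) rfl n := fun n => by
    rw [secVal_tmul, map_one, one_smul]
    rfl
  refine ⟨⟨a, ULift.up m⟩, ?_, ?_⟩
  · refine (totalPre_map (P := bigFun F) (Spec.map φ) a (ULift.up m)).trans ?_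
    refine congrArg (fun n => (⟨Spec.map φ ≫ a, ULift.up n⟩ : Σ g : Spec B ⟶ S, ULift.{u + 1} (Sec F g))) ?_
    exact (hone m).symm.trans hw
  · rintro ⟨a', ⟨m'⟩⟩ h
    obtain rfl : a' = a := hau a' (congrArg Sigma.fst h)
    have hh := congrArg ULift.down (eq_of_heq (Sigma.mk.inj
      ((totalPre_map (P := bigFun F) (Spec.map φ) a' (ULift.up m')).symm.trans h)).2)
    refine congrArg (fun n => (⟨a', ULift.up n⟩ : Σ g : Spec R ⟶ S, ULift.{u + 1} (Sec F g))) (hinj ?_)
    refine (secVal_bijective F a' B eB).1 ?_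
    show secVal F a' B eB ((1 : B) ⊗ₜ[R] m') = secVal F a' B eB ((1 : B) ⊗ₜ[R] m)
    rw [hw, hone]
    exact hh

theorem isSheaf_bigPre [Coh.IsQCoh F] :
    Presheaf.IsSheaf (QuotSh.J Scheme.fppfPrecoverage S) (bigPre F) := by
  rw [Presheaf.isSheaf_iff_isSheaf_forget _ _ (forget AddCommGrpCat.{u + 1}), isSheaf_iff_isSheaf_of_type]
  have hQ : Presieve.IsSheaf Scheme.fpqcTopology (totalPre (bigFun F)) := by
    rw [Scheme.fpqcTopology_eq_propQCTopology, isSheaf_type_propQCTopology_iff]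
    exact ⟨isSheaf_zariski F, fun {R B} φ hflat hsurj => isSheafFor_affine F φ hflat hsurj⟩
  exact Presieve.isSheaf_of_le _ (BigSite.J_mono Scheme.fppfPrecoverage_le_fpqcPrecoverage S)
    (isSheaf_over_of_isSheaf_totalPre _ hQ)

/-- The fppf sheaf of sections of the inverse images of a quasi-coherent module. -/
noncomputable def bigSheaf [Coh.IsQCoh F] : BigSite.Ab Scheme.fppfPrecoverage S := ⟨bigPre F, isSheaf_bigPre F⟩

variable [Coh.IsQCoh F] (R : CommRingCat.{u}) (a : Spec R ⟶ S) (B : Type u) [CommRing B] [Algebra R B]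

/-- Sections on the fibre powers of a covering. -/
noncomputable def bigVal (k : ℕ) :
    letI := secModule F a
    Cq R B k ⊗[R] Sec F a →+ (abBase R a (bigSheaf F)).obj (op (qOb R B k)) :=
  letI := secModule F a
  { toFun := fun w => (ULift.up (secVal F a (Cq R B k) rfl w) :
      ULift.{u + 1} (Sec F (Spec.map (CommRingCat.ofHom (algebraMap R (Cq R B k))) ≫ a)))
    map_zero' := by rw [map_zero]; rfl
    map_add' := fun x y => by rw [map_add]; rfl }

theorem bigVal_bijective (k : ℕ) : letI := secModule F a; Function.Bijective (bigVal F R a B k) :=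
  Equiv.ulift.symm.bijective.comp (secVal_bijective F a (Cq R B k) rfl)

theorem bigVal_face (k : ℕ) (i : Fin (k + 1)) :
    letI := secModule F a
    ∀ w : Cq R B k ⊗[R] Sec F a, (abBase R a (bigSheaf F)).map (qFaceOb R B k i).op (bigVal F R a B k w) =
      bigVal F R a B (k + 1) ((qFace R B k i).toLinearMap.rTensor (Sec F a) w) := by
  letI := secModule F a
  intro w
  apply ULift.ext
  exact secVal_natural F a (Cq R B k) rfl (qFace R B k i) rfl
    (((Category.assoc _ _ _).symm.trans (congrArg (· ≫ a) (Over.w (qFaceOb R B k i))))) w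

theorem cechExact_bigSheaf : CechExact (bigSheaf F) := by
  intro R a B _ _ _ k x hx
  letI := secModule F a
  have hD : ∀ (k : ℕ) w, bigVal F R a B (k + 1) (qD R B (Sec F a) k w) =
      ∑ i : Fin (k + 1), (-1 : ℤ) ^ (i : ℕ) • (abBase R a (bigSheaf F)).map (qFaceOb R B k i).op (bigVal F R a B k w) := by
    intro k w
    simp only [qD, LinearMap.sum_apply, LinearMap.smul_apply, map_sum, map_zsmul, bigVal_face]
  obtain ⟨w, rfl⟩ := (bigVal_bijective F R a B (k + 2)).2 x
  rw [← hD, ← map_zero (bigVal F R a B (k + 3))] at hx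
  obtain ⟨v, hv⟩ := qD_exact R B (Sec F a) (k + 1) w ((bigVal_bijective F R a B (k + 3)).1 hx)
  exact ⟨bigVal F R a B (k + 1) v, by rw [← hD, hv]⟩

end Groth.Agent.EtAssocLib
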