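import Groth.Agent.PullbackMod.Sections

/-!
# Sections of the inverse images of a module, as a functor of the scheme
-/

set_option autoImplicit false
set_option backward.isDefEq.respectTransparency false
set_option backward.isDefEq.respectTransparency.types false
set_option backward.defeqAttrib.useBackward true
set_option maxHeartbeats 800000
universe u

open CategoryTheory CategoryTheory.Limits AlgebraicGeometry TopologicalSpace Opposite
open Groth.Agent.CohBase Groth.Agent.QCohLib Groth.Agent.PullbackMod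

namespace Groth.Agent.EtAssocLib

variable {S : Scheme.{u}} (F : S.Modules)

/-- Maps out of an inverse image are determined on the canonical sections. -/
theorem pull_hom_ext {T : Scheme.{u}} {t : T ⟶ S} {N : T.Modules}
    (φ ψ : (Scheme.Modules.pullback t).obj F ⟶ N)
    (h : ∀ (V : S.Opens) (x : Γ(F, V)),
      φ.app (t ⁻¹ᵁ V) (((Scheme.Modules.pullbackPushforwardAdjunction t).unit.app F).app V x) =
        ψ.app (t ⁻¹ᵁ V) (((Scheme.Modules.pullbackPushforwardAdjunction t).unit.app F).app V x)) : φ = ψ := by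
  apply ((Scheme.Modules.pullbackPushforwardAdjunction t).homEquiv F N).injective
  rw [Adjunction.homEquiv_unit, Adjunction.homEquiv_unit]
  exact Scheme.Modules.hom_ext _ _ fun V => ConcreteCategory.hom_ext _ _ (h V)

variable {T T' T'' : Scheme.{u}} {t : T ⟶ S} {t' : T' ⟶ S} {t'' : T'' ⟶ S}

/-- The pullback of sections along a morphism over `S`, as a morphism of modules. -/
noncomputable def qres (g : T' ⟶ T) (e : g ≫ t = t') :
    (Scheme.Modules.pullback t).obj F ⟶
      (Scheme.Modules.pushforward g).obj ((Scheme.Modules.pullback t').obj F) :=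
  ((Scheme.Modules.pullbackPushforwardAdjunction t).homEquiv F _).symm
    ((Scheme.Modules.pullbackPushforwardAdjunction t').unit.app F ≫
      (Scheme.Modules.pushforwardCongr e.symm).hom.app _ ≫
        (Scheme.Modules.pushforwardComp g t).inv.app _)

theorem qres_unit (g : T' ⟶ T) (e : g ≫ t = t') (V : S.Opens) (x : Γ(F, V)) :
    (qres F g e).app (t ⁻¹ᵁ V) (((Scheme.Modules.pullbackPushforwardAdjunction t).unit.app F).app V x) =
      pullMap t' F (show g ⁻¹ᵁ (t ⁻¹ᵁ V) ≤ t' ⁻¹ᵁ V from le_of_eq (by subst e; rfl)) x := by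
  have h := ((Scheme.Modules.pullbackPushforwardAdjunction t).homEquiv F _).apply_symm_apply
    ((Scheme.Modules.pullbackPushforwardAdjunction t').unit.app F ≫
      (Scheme.Modules.pushforwardCongr e.symm).hom.app _ ≫ (Scheme.Modules.pushforwardComp g t).inv.app _)
  rw [Adjunction.homEquiv_unit] at h
  exact (congr($(h).app V x)).trans rfl

/-- The pullback of sections along a morphism over `S`. -/
noncomputable def qMap (g : T' ⟶ T) (e : g ≫ t = t') {W : T.Opens} {W' : T'.Opens} (hW : W' ≤ g ⁻¹ᵁ W) :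
    Γ((Scheme.Modules.pullback t).obj F, W) →+ Γ((Scheme.Modules.pullback t').obj F, W') :=
  (((Scheme.Modules.pullback t').obj F).presheaf.map (homOfLE hW).op).hom.comp ((qres F g e).app W).hom

variable {W : T.Opens} {W' : T'.Opens}

theorem qMap_res (g : T' ⟶ T) (e : g ≫ t = t') (hW : W' ≤ g ⁻¹ᵁ W) {V : T.Opens} {V' : T'.Opens} (hV : V ≤ W)
    (hV' : V' ≤ W') (hW₂ : V' ≤ g ⁻¹ᵁ V) (s : Γ((Scheme.Modules.pullback t).obj F, W)) :
    qMap F g e hW₂ (((Scheme.Modules.pullback t).obj F).presheaf.map (homOfLE hV).op s) =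
      ((Scheme.Modules.pullback t').obj F).presheaf.map (homOfLE hV').op (qMap F g e hW s) := by
  have h := congr($((qres F g e).mapPresheaf.naturality (homOfLE hV).op) s)
  refine (congrArg (((Scheme.Modules.pullback t').obj F).presheaf.map (homOfLE hW₂).op) h).trans ?_
  exact (restr_trans _ (g.preimage_mono hV) hW₂ _).trans (restr_trans _ hW hV' _).symm

theorem qMap_smul (g : T' ⟶ T) (e : g ≫ t = t') (hW : W' ≤ g ⁻¹ᵁ W) (c : Γ(T, W))
    (s : Γ((Scheme.Modules.pullback t).obj F, W)) :
    qMap F g e hW (c • s) = g.appLE W W' hW c • qMap F g e hW s := by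
  refine (congrArg _ (Scheme.Modules.Hom.app_smul _ c s)).trans ?_
  exact ((Scheme.Modules.pullback t').obj F).val.map_smul (homOfLE hW).op (g.app W c) _

theorem qMap_pullMap (g : T' ⟶ T) (e : g ≫ t = t') {V : S.Opens} (hV : W ≤ t ⁻¹ᵁ V) (hW : W' ≤ g ⁻¹ᵁ W)
    (hV' : W' ≤ t' ⁻¹ᵁ V) (x : Γ(F, V)) :
    qMap F g e hW (pullMap t F hV x) = pullMap t' F hV' x := by
  have h1 := qMap_res F g e (W := t ⁻¹ᵁ V) (le_refl (g ⁻¹ᵁ (t ⁻¹ᵁ V))) hV (hW.trans (g.preimage_mono hV)) hW
    (((Scheme.Modules.pullbackPushforwardAdjunction t).unit.app F).app V x)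
  refine h1.trans ((congrArg (fun y => ((Scheme.Modules.pullback t').obj F).presheaf.map
    (homOfLE (hW.trans (g.preimage_mono hV))).op (((Scheme.Modules.pullback t').obj F).presheaf.map (homOfLE le_rfl).op y))
      (qres_unit F g e V x)).trans ?_)
  exact (restr_trans _ _ _ _).trans (restr_trans _ _ _ _)

theorem qres_ext {N : T.Modules} (φ ψ : (Scheme.Modules.pullback t).obj F ⟶ N)
    (h : ∀ (V : S.Opens) (x : Γ(F, V)),
      φ.app (t ⁻¹ᵁ V) (pullMap t F le_rfl x) = ψ.app (t ⁻¹ᵁ V) (pullMap t F le_rfl x)) : φ = ψ :=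
  pull_hom_ext F φ ψ fun V x => by simpa [pullMap, restr_self] using h V x

theorem qres_comp (g : T' ⟶ T) (g' : T'' ⟶ T') (e : g ≫ t = t') (e' : g' ≫ t' = t'')
    (e'' : (g' ≫ g) ≫ t = t'') :
    qres F g e ≫ (Scheme.Modules.pushforward g).map (qres F g' e') =
      qres F (g' ≫ g) e'' ≫ (Scheme.Modules.pushforwardComp g' g).inv.app _ := by
  refine pull_hom_ext F _ _ fun V x => ?_
  show (qres F g' e').app (g ⁻¹ᵁ (t ⁻¹ᵁ V)) ((qres F g e).app (t ⁻¹ᵁ V) _) = (qres F (g' ≫ g) e'').app (t ⁻¹ᵁ V) _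
  rw [qres_unit, qres_unit]
  have h := qMap_pullMap F g' e' (W := g ⁻¹ᵁ (t ⁻¹ᵁ V)) (W' := g' ⁻¹ᵁ (g ⁻¹ᵁ (t ⁻¹ᵁ V)))
    (le_of_eq (by subst e; rfl)) le_rfl (le_of_eq (by subst e'; subst e; rfl)) x
  exact (restr_self ((Scheme.Modules.pullback t'').obj F) (le_refl (g' ⁻¹ᵁ (g ⁻¹ᵁ (t ⁻¹ᵁ V)))) _).symm.trans h

theorem qMap_qMap (g : T' ⟶ T) (g' : T'' ⟶ T') (e : g ≫ t = t') (e' : g' ≫ t' = t'')
    (e'' : (g' ≫ g) ≫ t = t'') (hW : W' ≤ g ⁻¹ᵁ W) {W'' : T''.Opens} (hW' : W'' ≤ g' ⁻¹ᵁ W')
    (hW'' : W'' ≤ (g' ≫ g) ⁻¹ᵁ W) (s : Γ((Scheme.Modules.pullback t).obj F, W)) :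
    qMap F g' e' hW' (qMap F g e hW s) = qMap F (g' ≫ g) e'' hW'' s := by
  have h := congr(($(qres_comp F g g' e e' e'')).app W s)
  refine (qMap_res F g' e' (le_refl (g' ⁻¹ᵁ (g ⁻¹ᵁ W))) hW (hW'.trans (g'.preimage_mono hW)) hW' _).trans ?_
  refine (congrArg (fun y => ((Scheme.Modules.pullback t'').obj F).presheaf.map (homOfLE (hW'.trans (g'.preimage_mono hW))).op
    (((Scheme.Modules.pullback t'').obj F).presheaf.map (homOfLE le_rfl).op y)) h).trans ?_
  exact restr_trans _ _ _ _

theorem qMap_self (e : 𝟙 T ≫ t = t) {W W' : T.Opens} (hW : W' ≤ W) (s : Γ((Scheme.Modules.pullback t).obj F, W)) :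
    qMap F (𝟙 T) e (W := W) hW s = ((Scheme.Modules.pullback t).obj F).presheaf.map (homOfLE hW).op s := by
  have h : qres F (𝟙 T) e = (Scheme.Modules.pushforwardId T).inv.app _ := pull_hom_ext F _ _ fun V x => by
    rw [qres_unit]
    exact (restr_self _ _ _).trans rfl
  exact congrArg (((Scheme.Modules.pullback t).obj F).presheaf.map (homOfLE hW).op) congr(($h).app W s)

/-- The identification of the double inverse image. -/
noncomputable def pullIso (g : T' ⟶ T) (e : g ≫ t = t') :
    (Scheme.Modules.pullback g).obj ((Scheme.Modules.pullback t).obj F) ≅ (Scheme.Modules.pullback t').obj F :=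
  (Scheme.Modules.pullbackComp g t).app F ≪≫ eqToIso (congrArg (fun h => (Scheme.Modules.pullback h).obj F) e)

theorem qres_eq (g : T' ⟶ T) (e : g ≫ t = t') :
    qres F g e = (Scheme.Modules.pullbackPushforwardAdjunction g).unit.app ((Scheme.Modules.pullback t).obj F) ≫
      (Scheme.Modules.pushforward g).map (pullIso F g e).hom := by
  refine pull_hom_ext F _ _ fun V x => ?_
  rw [qres_unit]
  subst e
  have h := congr(($(unit_conjugateEquiv ((Scheme.Modules.pullbackPushforwardAdjunction t).comp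
      (Scheme.Modules.pullbackPushforwardAdjunction g))
    (Scheme.Modules.pullbackPushforwardAdjunction (g ≫ t)) (Scheme.Modules.pullbackComp g t).inv F)).app V x)
  rw [Scheme.Modules.conjugateEquiv_pullbackComp_inv] at h
  refine (restr_self _ _ _).trans ?_
  have h' := congrArg (((Scheme.Modules.pullbackComp g t).app F).hom.app ((g ≫ t) ⁻¹ᵁ V)) h
  refine Eq.trans ?_ h'.symm
  exact (congr(($((Scheme.Modules.pullbackComp g t).inv_hom_id_app F)).app ((g ≫ t) ⁻¹ᵁ V)
    (((Scheme.Modules.pullbackPushforwardAdjunction (g ≫ t)).unit.app F).app V x))).symm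

theorem qMap_eq (g : T' ⟶ T) (e : g ≫ t = t') (hW : W' ≤ g ⁻¹ᵁ W) (s : Γ((Scheme.Modules.pullback t).obj F, W)) :
    qMap F g e hW s = (pullIso F g e).hom.app W' (pullMap g _ hW s) := by
  show ((Scheme.Modules.pullback t').obj F).presheaf.map (homOfLE hW).op ((qres F g e).app W s) = _
  rw [qres_eq]
  exact (congr($((pullIso F g e).hom.mapPresheaf.naturality (homOfLE hW).op)
    (((Scheme.Modules.pullbackPushforwardAdjunction g).unit.app ((Scheme.Modules.pullback t).obj F)).app W s))).symm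

/-- The pullback along an open immersion is bijective on sections over opens inside the image. -/
theorem qres_app_bijective (g : T' ⟶ T) [IsOpenImmersion g] (e : g ≫ t = t') {V : T.Opens}
    (hV : V ≤ g.opensRange) : Function.Bijective ((qres F g e).app V) := by
  let adj := Scheme.Modules.pullbackPushforwardAdjunction g
  let adjR := Scheme.Modules.restrictAdjunction g
  let M := (Scheme.Modules.pullback t).obj F
  have hu : adj.unit.app M = adjR.unit.app M ≫
      (Scheme.Modules.pushforward g).map ((Scheme.Modules.restrictFunctorIsoPullback g).hom.app M) :=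
    (Adjunction.unit_leftAdjointUniq_hom_app adjR adj M).symm
  rw [qres_eq, hu]
  have hb : Function.Bijective ((adjR.unit.app M).app V) :=
    res_bijective M (g.image_preimage_le V) (by
      rw [Scheme.Hom.image_preimage_eq_opensRange_inf, inf_eq_right.2 hV])
  exact ((ConcreteCategory.bijective_of_isIso ((pullIso F g e).hom.app (g ⁻¹ᵁ V))).comp
    (ConcreteCategory.bijective_of_isIso
      (((Scheme.Modules.restrictFunctorIsoPullback g).hom.app M).app (g ⁻¹ᵁ V)))).comp hb

theorem qMap_bijective_of_isOpenImmersion (g : T' ⟶ T) [IsOpenImmersion g] (e : g ≫ t = t')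
    (hW : W' ≤ g ⁻¹ᵁ W) (hr : W ≤ g.opensRange) (hW' : g ⁻¹ᵁ W ≤ W') :
    Function.Bijective (qMap F g e hW) :=
  (res_bijective _ hW hW').comp (qres_app_bijective F g e hr)

end Groth.Agent.EtAssocLib
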